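import Cfsg.Agent.BpSpor.Tools_m3
import Cfsg.Agent.SmallSimple.EvenOrder
import Cfsg.Agent.S0144
import Cfsg.Agent.S0205
import Cfsg.Agent.S0493
import Cfsg.Agent.BpSpor.SuzThreeRank
import Cfsg.Agent.BpSpor.RowAll
import Cfsg.Agent.ThFive.Abs
import Cfsg.Agent.BpSpor.Row.Tits_m3
import Cfsg.Agent.S1694
import Cfsg.Agent.H469.PiBS.Def
import Cfsg.Agent.KFacts.SuzInvol
import Cfsg.Agent.CTwoTab.Suz
import Cfsg.Agent.FastGrp
import Cfsg.Agent.Prune
set_option linter.all false

section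
prune_inst 0x7f00000000000000000000000000000000000000000000000000000000000000000000000000000000000000000000000000000000000000000000000000000000000000000000000000000000000000003fffffffffffffffffffffffffffbeffbdffffffff

-- part: BpSpor/SuzThree
section
set_option linter.all false
open scoped Cfsg.Agent.FastGrp

-- part: BpSpor/Num
section
/-!
# S1332, sporadic rows: numeric criteria (helper5)

* `good_of_arith` : no `q ^ m` with `p ∣ q ^ m - 1`, `q ≠ p` and `q ^ m * (|Z| * p) ∣ |H|`;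
* `good_of_num` : `64`, `81`, `125`, `343`, `r ^ 2` (`r ≥ 11`) do not divide `|H|` (primes different from `p`);
* `good_of_num_center` : the same with a central `p`-element.
-/

set_option autoImplicit false

namespace Cfsg.Agent.BpSpor

open Subgroup Cfsg Cfsg.Agent.Lib Cfsg.Agent.SignalizersComponents Cfsg.Agent.BpTab
open Cfsg.Agent.Intrinsic.Charac

universe u

theorem isPGroup_bot {H : Type*} [Group H] (p : ℕ) : IsPGroup p ↥(⊥ : Subgroup H) :=
  fun a => ⟨0, by rw [pow_zero, pow_one]; exact Subsingleton.elim _ _⟩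

section

variable {H : Type u} [Group H] [Finite H] {p : ℕ} [hp : Fact p.Prime]

/-- `p ∣ q ^ m - 1` for some `m ≤ d` if `p` divides `|GL_d(q)|` -/
theorem exists_pow_sub_one {r d : ℕ} (hr : r.Prime) (hrp : r ≠ p) (h : p ∣ ∏ i : Fin d, (r ^ d - r ^ (i : ℕ))) :
    ∃ m, 1 ≤ m ∧ m ≤ d ∧ p ∣ r ^ m - 1 := by
  obtain ⟨i, -, hi⟩ := (Nat.Prime.prime hp.out).exists_mem_finset_dvd h
  refine ⟨d - i, by omega, by omega, ?_⟩
  have h1 : r ^ d - r ^ (i : ℕ) = r ^ (i : ℕ) * (r ^ (d - i) - 1) := by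
    rw [Nat.mul_sub, mul_one, ← pow_add]
    congr 2
    omega
  rw [h1] at hi
  rcases hp.out.dvd_mul.1 hi with h2 | h2
  · exfalso
    have h3 := hp.out.dvd_of_dvd_pow h2
    exact hrp ((Nat.prime_dvd_prime_iff_eq hp.out hr).1 h3).symm
  · exact h2

end

section Small

variable {S : Type*} [Group S] [Finite S] [IsSimpleGroup S]

theorem not_solvable (hna : ¬ ∀ a b : S, a * b = b * a) : ¬ Group.IsSolvable S := fun h =>
  hna fun a b => (IsSimpleGroup.comm_iff_isSolvable (G := S)).2 h a b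

theorem not_two_primes (hna : ¬ ∀ a b : S, a * b = b * a) {p q a b : ℕ} (hp : p.Prime) (hq : q.Prime) :
    ¬ Nat.card S ∣ p ^ a * q ^ b := by
  intro h
  obtain ⟨x, y, hx, hy, hxy⟩ := exists_dvd_and_dvd_of_dvd_mul h
  obtain ⟨i, -, rfl⟩ := (Nat.dvd_prime_pow hp).1 hx
  obtain ⟨j, -, rfl⟩ := (Nat.dvd_prime_pow hq).1 hy
  exact not_solvable hna (S0144.result p q i j hp hq hxy)

theorem four_dvd (hna : ¬ ∀ a b : S, a * b = b * a) : 4 ∣ Nat.card S := by
  have h1 : ¬ IsMulCommutative S := fun h => hna fun a b => h.is_comm.comm a b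
  refine SmallSimple.EvenOrder.four_dvd_card h1 ?_
  by_contra h2
  exact not_solvable hna (S0205.result (Nat.not_even_iff_odd.1 fun h => h2 h.two_dvd))

theorem not_dvd_84 (hna : ¬ ∀ a b : S, a * b = b * a) : ¬ Nat.card S ∣ 84 := by
  intro h
  have h1 : ¬ IsCyclic S := fun hc => hna fun a b => (IsCyclic.isMulCommutative (α := S)).is_comm.comm a b
  have h2 := S0493.result h1 ((Nat.le_of_dvd (by norm_num) h).trans (by norm_num))
  rw [h2] at h
  exact absurd h (by norm_num)

end Small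

theorem dvd_of_not_dvd {r M a c s : ℕ} (hr : r.Prime) (h : s ∣ r ^ M * (r ^ a * c)) (hs : ¬ r ∣ s) : s ∣ c := by
  have h1 : ∀ n, s.Coprime (r ^ n) := fun n => (((Nat.Prime.coprime_iff_not_dvd hr).2 hs).symm).pow_right n
  exact (h1 a).dvd_of_dvd_mul_left ((h1 M).dvd_of_dvd_mul_left h)

/-- a form of divisibility by `4 * odd` -/
theorem dvd_of_eight {M c s : ℕ} (h : s ∣ 2 ^ M * c) (hs : ¬ 8 ∣ s) (h4 : 4 ∣ s) : s ∣ 4 * c := by
  obtain ⟨m, rfl⟩ := h4
  have hm : ¬ 2 ∣ m := by
    rintro ⟨n, rfl⟩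
    exact hs ⟨n, by ring⟩
  have h1 : m.Coprime (2 ^ M) := (((Nat.Prime.coprime_iff_not_dvd Nat.prime_two).2 hm).symm).pow_right M
  exact Nat.mul_dvd_mul_left 4 (h1.dvd_of_dvd_mul_left ((Dvd.intro_left _ rfl).trans h))

/-- **The numeric criterion.** -/
theorem good_of_num {H : Type u} [Group H] [Finite H] {p : ℕ} (hp : p.Prime) (h2 : ¬ 64 ∣ Nat.card H)
    (h3 : p = 3 ∨ ¬ 81 ∣ Nat.card H) (h5 : p = 5 ∨ ¬ 125 ∣ Nat.card H) (h7 : p = 7 ∨ ¬ 343 ∣ Nat.card H)
    (h11 : ∀ r, r.Prime → 11 ≤ r → r ≠ p → ¬ r ^ 2 ∣ Nat.card H) : Good p H := by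
  have : Fact p.Prime := ⟨hp⟩
  by_contra hG
  obtain ⟨K, -, r, k, d, M, hs, hna, hpS, hr, hrp, hd, hdk, hdvd, hS⟩ := witness hG ⊥ bot_le (isPGroup_bot p)
  rw [card_bot, one_mul] at hdvd
  have hk : r ^ k ∣ Nat.card H := (Dvd.intro _ rfl).trans hdvd
  have hS4 := four_dvd hna
  rcases Nat.lt_or_ge r 11 with hlt | hge
  · have hr' : r = 2 ∨ r = 3 ∨ r = 5 ∨ r = 7 := by
      interval_cases r <;> first | (clear * -; omega) | (exfalso; revert hr; norm_num)
    rcases hr' with rfl | rfl | rfl | rfl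
    · -- `r = 2`
      have hk4 : k < 4 := by
        by_contra hk4
        apply h2
        have h1 : 2 ^ 4 ∣ 2 ^ k := pow_dvd_pow 2 (by omega)
        exact (mul_dvd_mul h1 hS4).trans hdvd
      have hd' : d = 2 ∨ d = 3 := by omega
      rcases hd' with rfl | rfl
      · have h1 : ∏ i : Fin 2, (2 ^ 2 - 2 ^ (i : ℕ)) = 2 * 3 ^ 1 := by decide
        rw [h1, ← mul_assoc, ← pow_succ] at hS
        exact not_two_primes hna Nat.prime_two Nat.prime_three hS
      · have h1 : ∏ i : Fin 3, (2 ^ 3 - 2 ^ (i : ℕ)) = 2 ^ 3 * 21 := by decide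
        rw [h1, ← mul_assoc, ← pow_add] at hS
        have hk3 : k = 3 := by omega
        have h8 : ¬ 8 ∣ Nat.card (↥K ⧸ center ↥K) := fun h8 => h2 (by
          rw [hk3] at hdvd
          exact (mul_dvd_mul_left (2 ^ 3) h8).trans hdvd)
        exact not_dvd_84 hna (dvd_of_eight hS h8 hS4)
    · -- `r = 3`
      have h3' := h3.resolve_left fun h => hrp h.symm
      have hk4 : k < 4 := by
        by_contra hk4
        exact h3' ((pow_dvd_pow 3 (show 4 ≤ k by omega)).trans hk)
      have hd' : d = 2 ∨ d = 3 := by omega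
      rcases hd' with rfl | rfl
      · have h1 : ∏ i : Fin 2, (3 ^ 2 - 3 ^ (i : ℕ)) = 3 * 2 ^ 4 := by decide
        rw [h1, ← mul_assoc, ← pow_succ] at hS
        exact not_two_primes hna Nat.prime_three Nat.prime_two hS
      · have h1 : ∏ i : Fin 3, (3 ^ 3 - 3 ^ (i : ℕ)) = 3 ^ 3 * (2 ^ 5 * 13 ^ 1) := by decide
        rw [h1] at hS
        have hk3 : k = 3 := by omega
        have h8 : ¬ 3 ∣ Nat.card (↥K ⧸ center ↥K) := fun h8 => h3' (by
          rw [hk3] at hdvd
          exact (mul_dvd_mul_left (3 ^ 3) h8).trans hdvd)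
        exact not_two_primes hna Nat.prime_two (by norm_num) (dvd_of_not_dvd Nat.prime_three hS h8)
    · -- `r = 5`
      have h5' := h5.resolve_left fun h => hrp h.symm
      have hk3 : k < 3 := by
        by_contra hk3
        exact h5' ((pow_dvd_pow 5 (show 3 ≤ k by omega)).trans hk)
      have hd2 : d = 2 := by omega
      have hk2 : k = 2 := by omega
      subst hd2 hk2
      have h1 : ∏ i : Fin 2, (5 ^ 2 - 5 ^ (i : ℕ)) = 5 ^ 1 * (2 ^ 5 * 3 ^ 1) := by decide
      rw [h1] at hS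
      have h8 : ¬ 5 ∣ Nat.card (↥K ⧸ center ↥K) := fun h8 => h5' ((mul_dvd_mul_left (5 ^ 2) h8).trans hdvd)
      exact not_two_primes hna Nat.prime_two Nat.prime_three (dvd_of_not_dvd Nat.prime_five hS h8)
    · -- `r = 7`
      have h7' := h7.resolve_left fun h => hrp h.symm
      have hk3 : k < 3 := by
        by_contra hk3
        exact h7' ((pow_dvd_pow 7 (show 3 ≤ k by omega)).trans hk)
      have hd2 : d = 2 := by omega
      have hk2 : k = 2 := by omega
      subst hd2 hk2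
      have h1 : ∏ i : Fin 2, (7 ^ 2 - 7 ^ (i : ℕ)) = 7 ^ 1 * (2 ^ 5 * 3 ^ 2) := by decide
      rw [h1] at hS
      have h8 : ¬ 7 ∣ Nat.card (↥K ⧸ center ↥K) := fun h8 => h7' ((mul_dvd_mul_left (7 ^ 2) h8).trans hdvd)
      exact not_two_primes hna Nat.prime_two Nat.prime_three (dvd_of_not_dvd (by norm_num) hS h8)
  · exact h11 r hr hge hrp ((pow_dvd_pow r (hd.trans hdk)).trans hk)

end Cfsg.Agent.BpSpor
end

-- part: BpSpor/SuzThree
section
-- merged: Cfsg.Agent.BpSpor.OddCore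
section

/-!
# `Good 3 H` if `O_{3'}(H)` has odd order (helper51)
-/

set_option autoImplicit false

namespace Cfsg.Agent.BpSpor

open Subgroup Cfsg Cfsg.Agent.Lib Cfsg.Agent.BpTab Cfsg.Agent.SignalizersComponents

universe u

/-- **The order criterion if `O_{3'}(H)` has odd order.** -/
theorem good_of_odd_core {H : Type u} [Group H] [Finite H] (hodd : ¬ 2 ∣ Nat.card ↥(pPrimeCore 3 H))
    (h5 : ¬ 125 ∣ Nat.card H) (h7 : ¬ 49 ∣ Nat.card H)
    (h11 : ∀ r : ℕ, r.Prime → 11 ≤ r → ¬ r ^ 2 ∣ Nat.card H) : Good 3 H := by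
  have : Fact (Nat.Prime 3) := ⟨Nat.prime_three⟩
  by_contra hG
  obtain ⟨L, hL, r, k, d, M, hr, hrp, hd, hdk, hk, hS⟩ := exists_section hG
  have hqs : IsQuasisimple ↥(L.map (QuotientGroup.mk' (pPrimeCore 3 H))) := hL.2.1.2
  set q := QuotientGroup.mk' (pPrimeCore 3 H) with hq
  have hna : ¬ ∀ a b : ↥(L.map q) ⧸ center ↥(L.map q), a * b = b * a := by
    intro hc
    refine Components.quasisimple_not_isSolvable hqs ?_
    have h4 : Group.IsSolvable ↥(center ↥(L.map q)) :=
      Group.isSolvable_of_comm fun a b => Subtype.ext (mem_center_iff.1 b.2 a)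
    have h5 : Group.IsSolvable (↥(L.map q) ⧸ center ↥(L.map q)) := Group.isSolvable_of_comm hc
    exact Group.isSolvable_of_ker_le_range (center ↥(L.map q)).subtype (QuotientGroup.mk' (center ↥(L.map q))) (by
      rw [QuotientGroup.ker_mk', Subgroup.range_subtype])
  have hsimp : IsSimpleGroup (↥(L.map q) ⧸ center ↥(L.map q)) := hqs.2
  have hdv : Nat.card ↥(pPrimeCore 3 H) * Nat.card (↥(L.map q) ⧸ center ↥(L.map q)) ∣ Nat.card H := by
    rw [card_eq_card_quotient_mul_card_subgroup (pPrimeCore 3 H), mul_comm]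
    refine mul_dvd_mul ?_ dvd_rfl
    exact (card_quotient_dvd_card _).trans (card_subgroup_dvd_card _)
  have hkH : r ^ k ∣ Nat.card H := (hk.trans (Dvd.intro _ rfl)).trans hdv
  have hr2 : r ^ 2 ∣ Nat.card H := (pow_dvd_pow r (by omega)).trans hkH
  rcases Nat.lt_or_ge r 11 with hlt | hge
  · have hr' : r = 2 ∨ r = 3 ∨ r = 5 ∨ r = 7 := by
      interval_cases r <;> first | (clear * - h5 hr2 h7; omega) | (exfalso; revert hr; norm_num)
    rcases hr' with rfl | rfl | rfl | rfl
    · exact hodd ((dvd_pow_self 2 (by omega)).trans hk)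
    · exact hrp rfl
    · have hk3 : k < 3 := by
        by_contra hk3
        exact h5 ((pow_dvd_pow 5 (show 3 ≤ k by omega)).trans hkH)
      have hd2 : d = 2 := by omega
      have hk2 : k = 2 := by omega
      subst hd2 hk2
      have h1 : ∏ i : Fin 2, (5 ^ 2 - 5 ^ (i : ℕ)) = 5 ^ 1 * (2 ^ 5 * 3 ^ 1) := by decide
      rw [h1] at hS
      have h8 : ¬ 5 ∣ Nat.card (↥(L.map q) ⧸ center ↥(L.map q)) := fun h8 =>
        h5 ((mul_dvd_mul hk h8).trans hdv)
      exact not_two_primes hna Nat.prime_two Nat.prime_three (dvd_of_not_dvd Nat.prime_five hS h8)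
    · exact h7 hr2
  · exact h11 r hr hge hr2

end Cfsg.Agent.BpSpor

end

-- merged: Cfsg.Agent.BpSpor.SuzThree
section

/-!
# S1332: the row `Suz`, `p = 3` (helper51)

An element `x` of order 3 commuting with an involution of class 2A is conjugate to an element of the elementary abelian
group `A0` of order `3 ^ 5`; involution centralizers contain no elementary abelian subgroup of order 81, so that
`O_{3'}(C(x))` has odd order.  The other elements of order 3 have `|C(x)|_2 ≤ 8`.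
-/

set_option autoImplicit false
set_option maxRecDepth 100000

namespace Cfsg.Agent.BpSpor.SuzThree

open Subgroup Cfsg Cfsg.Spor
open Cfsg.Agent.BpTab Cfsg.Agent.CpAut Cfsg.Agent.BpSpor
open Cfsg.Agent.SporadicRecognition.SuzOrder Cfsg.Agent.SuzThree.Elementary Cfsg.Agent.SuzThree.CentA
open Cfsg.Agent.KFacts.SuzLFour (e0)

theorem not_dvd {H : Subgroup Suz} {n : ℕ} (hn : ¬ n ∣ 448345497600) : ¬ n ∣ Nat.card ↥H := by
  intro h
  have h1 := h.trans (card_subgroup_dvd_card H)
  rw [card_Suz] at h1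
  exact hn h1

theorem sq_not_dvd {r : ℕ} (hr : r.Prime) (h11 : 11 ≤ r) : ¬ r ^ 2 ∣ 448345497600 := by
  intro h
  have h1 : r ∣ 448345497600 := (dvd_pow_self r two_ne_zero).trans h
  have h2 : (448345497600 : ℕ) = 2 ^ 13 * (3 ^ 7 * (5 ^ 2 * (7 * (11 * 13)))) := by norm_num
  rw [h2] at h1
  have key : r = 11 ∨ r = 13 := by
    rcases (Nat.Prime.dvd_mul hr).1 h1 with h3 | h3
    · have := (Nat.prime_dvd_prime_iff_eq hr Nat.prime_two).1 (hr.dvd_of_dvd_pow h3)
      omega
    · rcases (Nat.Prime.dvd_mul hr).1 h3 with h3 | h3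
      · have := (Nat.prime_dvd_prime_iff_eq hr Nat.prime_three).1 (hr.dvd_of_dvd_pow h3)
        omega
      · rcases (Nat.Prime.dvd_mul hr).1 h3 with h3 | h3
        · have := (Nat.prime_dvd_prime_iff_eq hr Nat.prime_five).1 (hr.dvd_of_dvd_pow h3)
          omega
        · rcases (Nat.Prime.dvd_mul hr).1 h3 with h3 | h3
          · have := (Nat.prime_dvd_prime_iff_eq hr (by norm_num)).1 h3
            omega
          · rcases (Nat.Prime.dvd_mul hr).1 h3 with h3 | h3
            · exact Or.inl ((Nat.prime_dvd_prime_iff_eq hr (by norm_num)).1 h3)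
            · exact Or.inr ((Nat.prime_dvd_prime_iff_eq hr (by norm_num)).1 h3)
  rcases key with rfl | rfl
  · exact absurd h (by norm_num)
  · exact absurd h (by norm_num)

/-- **`Good 3 C(x)` for `x` in `A0`.** -/
theorem good_A0 {x : Suz} (hx : x ∈ A0) : Good 3 ↥(centralizer ({x} : Set Suz)) := by
  have hfin := finSuz
  refine good_of_odd_core (core_odd hx) (not_dvd (by norm_num)) (not_dvd (by norm_num)) ?_
  intro r hr h11
  exact not_dvd (sq_not_dvd hr h11)

/-- an element of order 3 commuting with an involution of class 2A is conjugate to an element of `A0` -/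
theorem conj_A0' {x t : Suz} (hx : x ^ 3 = 1) (ht : IsConj z0 t) (hxt : x * t = t * x) :
    ∃ g : Suz, g * x * g⁻¹ ∈ A0 := by
  obtain ⟨c, rfl⟩ := isConj_iff.1 ht
  have h1 : (c⁻¹ * x * c) ^ 3 = 1 := by
    have := conj_pow (i := 3) (a := c⁻¹) (b := x)
    rw [inv_inv] at this
    rw [this, hx, mul_one, inv_mul_cancel]
  have h2 : c⁻¹ * x * c * z0 = z0 * (c⁻¹ * x * c) := by
    calc c⁻¹ * x * c * z0 = c⁻¹ * (x * (c * z0 * c⁻¹)) * c := by group
      _ = z0 * (c⁻¹ * x * c) := by rw [hxt]; group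
  obtain ⟨g, hg⟩ := conj_A0 h1 h2
  refine ⟨g * c⁻¹, ?_⟩
  have h3 : g * c⁻¹ * x * (g * c⁻¹)⁻¹ = g * (c⁻¹ * x * c) * g⁻¹ := by group
  rw [h3]
  exact hg

/-- the other elements of order 3 -/
theorem two_part {x : Suz} (hx : orderOf x = 3) (h : ∀ t : Suz, IsConj z0 t → x * t ≠ t * x) :
    ¬ 16 ∣ Nat.card ↥(centralizer ({x} : Set Suz)) := by
  have hfin := finSuz
  intro h16
  have hF : Fact (Nat.Prime 2) := ⟨Nat.prime_two⟩
  have hx3 : x ^ 3 = 1 := by rw [← hx, pow_orderOf_eq_one]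
  have hx1 : x ≠ 1 := by
    rintro rfl
    rw [orderOf_one] at hx
    omega
  set H : Subgroup Suz := centralizer ({x} : Set Suz) with hH
  obtain ⟨P⟩ : Nonempty (Sylow 2 ↥H) := inferInstance
  have hP16 : 16 ∣ Nat.card (P : Subgroup ↥H) := by
    have : (2 : ℕ) ^ 4 ∣ Nat.card (P : Subgroup ↥H) := P.pow_dvd_card_of_pow_dvd_card (by norm_num only []; exact h16)
    norm_num only [] at this
    exact this
  have hnt : Nontrivial ↥(P : Subgroup ↥H) := by
    rw [← Finite.one_lt_card_iff_nontrivial]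
    have : 0 < Nat.card (P : Subgroup ↥H) := Nat.card_pos
    omega
  have hcnt := P.2.center_nontrivial
  obtain ⟨z, hz⟩ : ∃ z : ↥(center ↥(P : Subgroup ↥H)), orderOf z = 2 := by
    have hp : IsPGroup 2 ↥(center ↥(P : Subgroup ↥H)) := P.2.to_subgroup _
    have h2 : 2 ∣ Nat.card ↥(center ↥(P : Subgroup ↥H)) := by
      obtain ⟨n, hn⟩ := IsPGroup.iff_card.1 hp
      rcases Nat.eq_zero_or_pos n with h0 | h0
      · rw [h0, pow_zero] at hn
        have := Finite.one_lt_card_iff_nontrivial.2 hcnt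
        omega
      · rw [hn]
        exact dvd_pow_self 2 h0.ne'
    exact exists_prime_orderOf_dvd_card' 2 h2
  set t : Suz := (((z : ↥(P : Subgroup ↥H)) : ↥H) : Suz) with ht
  have hto : orderOf t = 2 := by rw [ht, orderOf_coe, orderOf_coe, orderOf_coe]; exact hz
  have htt : t * t = 1 := by rw [← pow_two, ← hto, pow_orderOf_eq_one]
  have ht1 : t ≠ 1 := by
    intro h0
    rw [h0, orderOf_one] at hto
    omega
  have htx : t * x = x * t := mem_centralizer_singleton_iff.1 ((z : ↥(P : Subgroup ↥H)) : ↥H).2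
  have htP : ∀ s ∈ (P : Subgroup ↥H), (s : Suz) * t = t * s := by
    intro s hs
    have h1 := mem_center_iff.1 z.2 ⟨s, hs⟩
    have h2 := congrArg (fun y : ↥(P : Subgroup ↥H) => ((y : ↥H) : Suz)) h1
    exact h2
  rcases Cfsg.Agent.CTwoTab.Suz.classes htt ht1 with h1 | h1
  · exact h t h1 htx.symm
  · obtain ⟨c, hc⟩ := isConj_iff.1 h1
    have hc' : e0 = c⁻¹ * t * c := by rw [← hc]; group
    -- conjugate everything by `c⁻¹`
    have e3 : (c⁻¹ * x * c) ^ 3 = 1 := by
      have := conj_pow (i := 3) (a := c⁻¹) (b := x)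
      rw [inv_inv] at this
      rw [this, hx3, mul_one, inv_mul_cancel]
    have e1 : c⁻¹ * x * c ≠ 1 := by
      intro h2
      apply hx1
      have h3 : x = c * (c⁻¹ * x * c) * c⁻¹ := by group
      rw [h3, h2]
      group
    have ee : c⁻¹ * x * c * e0 = e0 * (c⁻¹ * x * c) := by
      rw [hc']
      calc c⁻¹ * x * c * (c⁻¹ * t * c) = c⁻¹ * (x * t) * c := by group
        _ = c⁻¹ * t * c * (c⁻¹ * x * c) := by rw [← htx]; group
    set S : Subgroup Suz := ((P : Subgroup ↥H).map H.subtype).map (MulAut.conj c⁻¹).toMonoidHom with hS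
    have hSc : Nat.card S = Nat.card (P : Subgroup ↥H) := by
      rw [hS, card_map_of_injective (MulAut.conj c⁻¹).injective, card_map_of_injective H.subtype_injective]
    have hSp : IsPGroup 2 S := (P.2.map _).map _
    have hle := card_le_eight e3 e1 ee hSp ?_ ?_
    · rw [hSc] at hle
      have h5 : 0 < Nat.card (P : Subgroup ↥H) := Nat.card_pos
      have h6 := Nat.le_of_dvd h5 hP16
      omega
    · rintro _ ⟨_, ⟨s, hs, rfl⟩, rfl⟩
      have h5 : (s : Suz) * x = x * s := mem_centralizer_singleton_iff.1 s.2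
      show c⁻¹ * (s : Suz) * c⁻¹⁻¹ * (c⁻¹ * x * c) = c⁻¹ * x * c * (c⁻¹ * (s : Suz) * c⁻¹⁻¹)
      calc c⁻¹ * (s : Suz) * c⁻¹⁻¹ * (c⁻¹ * x * c) = c⁻¹ * (s * x) * c := by group
        _ = c⁻¹ * x * c * (c⁻¹ * (s : Suz) * c⁻¹⁻¹) := by rw [h5]; group
    · rintro _ ⟨_, ⟨s, hs, rfl⟩, rfl⟩
      have h5 : (s : Suz) * t = t * s := htP s hs
      show c⁻¹ * (s : Suz) * c⁻¹⁻¹ * e0 = e0 * (c⁻¹ * (s : Suz) * c⁻¹⁻¹)
      rw [hc']
      calc c⁻¹ * (s : Suz) * c⁻¹⁻¹ * (c⁻¹ * t * c) = c⁻¹ * (s * t) * c := by group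
        _ = c⁻¹ * t * c * (c⁻¹ * (s : Suz) * c⁻¹⁻¹) := by rw [h5]; group

/-- **Elements of order 3 of `Suz`**: conjugate to an element of `A0`, or `16 ∤ |C(x)|`. -/
theorem conj_or {x : Suz} (hx : orderOf x = 3) :
    (∃ g : Suz, g * x * g⁻¹ ∈ A0) ∨ ¬ 16 ∣ Nat.card ↥(centralizer ({x} : Set Suz)) := by
  by_cases h : ∃ t : Suz, IsConj z0 t ∧ x * t = t * x
  · obtain ⟨t, ht, hxt⟩ := h
    exact Or.inl (conj_A0' (by rw [← hx, pow_orderOf_eq_one]) ht hxt)
  · push Not at h
    exact Or.inr (two_part hx h)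

/-- **`Good 3 C(x)`** -/
theorem good {x : Suz} (hx : orderOf x = 3) : Good 3 ↥(centralizer ({x} : Set Suz)) := by
  have hfin := finSuz
  have hF : Fact (Nat.Prime 3) := ⟨Nat.prime_three⟩
  rcases conj_or hx with ⟨g, hg⟩ | h
  · refine good_of_conj (u := g * x * g⁻¹) (v := x) (c := g⁻¹) (by group) (good_A0 hg)
  · refine good_of_num Nat.prime_three (fun h64 => h ((by norm_num : (16 : ℕ) ∣ 64).trans h64)) (Or.inl rfl)
      (Or.inr (not_dvd (by norm_num))) (Or.inr (not_dvd (by norm_num))) ?_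
    intro r hr h11 _
    exact not_dvd (sq_not_dvd hr h11)

theorem center_eq : center Suz = ⊥ := by
  have hfin := finSuz
  have hs : IsSimpleGroup Suz := Cfsg.Agent.S1694.result.1
  refine CpAut.center_eq_bot_of_simple ?_
  intro h
  exact S3_not_comm fun a _ b _ => h.is_comm.comm a b

/-- **The row `Suz`, `p = 3` of S1332.** -/
theorem bps_three : BpS 3 Suz :=
  bpS_of_inner center_eq (Inn.suz ⟨MulEquiv.refl _⟩ 3 Nat.prime_three (by norm_num)) fun _ hg => good hg

end Cfsg.Agent.BpSpor.SuzThree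

end
end
end

-- part: H799/PiBS/Inv3
section
set_option linter.all false
open scoped Cfsg.Agent.FastGrp

/-!
# Automorphisms of order two with a commutator of order divisible by three (helper799, S3876)

* `Bad x` : some `x a * a⁻¹` has order divisible by 3;
* `Inv3 K` : every automorphism of order two is bad;
* `Inv3.of_inner`, `Inv3.of_cases`, `Inv3.congr`;
* `eq_or_bad` : an automorphism of order two acts trivially on an invariant section with `Inv3`, or is bad;
* `Inv3.false` : `Hyp π A x 2` and `3 ∉ π` are contradictory.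
-/

set_option autoImplicit false
set_option linter.unusedSectionVars false

namespace Cfsg.Agent.H799.PiBS

open Subgroup Cfsg

universe u v

section Gen

variable {K : Type u} [Group K]

theorem conj_inj (hZ : center K = ⊥) : Function.Injective (MulAut.conj : K →* MulAut K) := by
  rw [injective_iff_map_eq_one]
  intro a ha
  have h2 : a ∈ center K := by
    rw [mem_center_iff]
    intro b
    have h3 : a * b * a⁻¹ = b := DFunLike.congr_fun ha b
    calc b * a = (a * b * a⁻¹) * a := by rw [h3]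
      _ = a * b := by group
  rwa [hZ, mem_bot] at h2

/-- some commutator has order divisible by three -/
def Bad (x : MulAut K) : Prop := ∃ a : K, 3 ∣ orderOf (x a * a⁻¹)

theorem Bad.conj {x : MulAut K} (h : Bad x) (φ : MulAut K) : Bad (φ * x * φ⁻¹) := by
  obtain ⟨a, hd⟩ := h
  refine ⟨φ a, ?_⟩
  have e : (φ * x * φ⁻¹) (φ a) * (φ a)⁻¹ = φ (x a * a⁻¹) := by
    rw [MulAut.mul_apply, MulAut.mul_apply, MulAut.inv_apply_self, map_mul, map_inv]
  rw [e, MulEquiv.orderOf_eq]
  exact hd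

/-- conjugate elements -/
theorem Bad.inner {s t : K} (h : Bad (MulAut.conj s)) (hst : IsConj s t) : Bad (MulAut.conj t) := by
  obtain ⟨g, hg⟩ := isConj_iff.1 hst
  have e : MulAut.conj t = MulAut.conj g * MulAut.conj s * (MulAut.conj g)⁻¹ := by
    rw [← hg, map_mul, map_mul, map_inv]
  rw [e]
  exact h.conj _

/-- an element inverting an element of order three -/
theorem Bad.of_inv {x : MulAut K} {y : K} (hy : y ^ 3 = 1) (hy1 : y ≠ 1) (hxy : x y = y⁻¹) : Bad x := by
  have : Fact (Nat.Prime 3) := ⟨Nat.prime_three⟩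
  refine ⟨y, ?_⟩
  have h1 : y⁻¹ * y⁻¹ = y := by
    have h2 : y * y * y = 1 := by rw [← hy, pow_succ, pow_two]
    calc y⁻¹ * y⁻¹ = y⁻¹ * y⁻¹ * (y * y * y) := by rw [h2, mul_one]
      _ = y := by group
  rw [hxy, h1, orderOf_eq_prime hy hy1]

/-- an involution `s` and an involution `t` with `(s t)³ = 1`, `s ≠ t` -/
theorem Bad.of_dihedral {s t : K} (hs : s * s = 1) (ht : t * t = 1) (h : (s * t) ^ 3 = 1) (hst : s * t ≠ 1) :
    Bad (MulAut.conj s) := by
  refine Bad.of_inv (y := s * t) h hst ?_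
  have hs' : s⁻¹ = s := inv_eq_of_mul_eq_one_right hs
  have ht' : t⁻¹ = t := inv_eq_of_mul_eq_one_right ht
  rw [MulAut.conj_apply, mul_inv_rev, hs', ht']
  calc s * (s * t) * s = (s * s) * t * s := by group
    _ = t * s := by rw [hs, one_mul]

/-- a commutator of order three -/
theorem Bad.of_comm {s a : K} (h : (s * a * s⁻¹ * a⁻¹) ^ 3 = 1) (h1 : s * a * s⁻¹ * a⁻¹ ≠ 1) :
    Bad (MulAut.conj s) := by
  have : Fact (Nat.Prime 3) := ⟨Nat.prime_three⟩
  refine ⟨a, ?_⟩
  rw [MulAut.conj_apply, orderOf_eq_prime h h1]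

/-- a commutator of order divisible by three, seen in an image -/
theorem Bad.of_map {L : Type v} [Group L] (f : K →* L) {s a : K} (h : 3 ∣ orderOf (f (s * a * s⁻¹ * a⁻¹))) :
    Bad (MulAut.conj s) := ⟨a, h.trans (orderOf_map_dvd f _)⟩

/-- in an invariant subgroup -/
theorem Bad.of_section {x : MulAut K} {M : Subgroup K} (hx : ∀ m ∈ M, x m ∈ M) {Q : Type v} [Group Q] (f : M →* Q)
    (m : M) (h : 3 ∣ orderOf (f ⟨x m, hx m m.2⟩ * (f m)⁻¹)) : Bad x := by
  refine ⟨m, ?_⟩
  have h2 : orderOf (f (⟨x m, hx m m.2⟩ * m⁻¹)) ∣ orderOf ((⟨x m, hx m m.2⟩ : M) * m⁻¹) := orderOf_map_dvd f _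
  rw [map_mul, map_inv, ← Subgroup.orderOf_coe] at h2
  exact h.trans h2

/-- **all automorphisms of order two have a commutator of order divisible by three** -/
def Inv3 (K : Type u) [Group K] : Prop := ∀ x : MulAut K, orderOf x = 2 → Bad x

theorem Inv3.congr {L : Type v} [Group L] (e : K ≃* L) (h : Inv3 L) : Inv3 K := by
  intro x hx
  obtain ⟨a, ha⟩ := h (H469.PiBS.mcg e x) (by rw [MulEquiv.orderOf_eq, hx])
  refine ⟨e.symm a, ?_⟩
  rw [H469.PiBS.mcg_apply] at ha
  have e1 : e (x (e.symm a)) * a⁻¹ = e (x (e.symm a) * (e.symm a)⁻¹) := by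
    rw [map_mul, map_inv, MulEquiv.apply_symm_apply]
  rwa [e1, MulEquiv.orderOf_eq] at ha

theorem Inv3.of_cases (hc : center K = ⊥) (hi : ∀ t : K, t * t = 1 → t ≠ 1 → Bad (MulAut.conj t))
    (ho : ∀ x : MulAut K, orderOf x = 2 → x * x = 1 → (¬ ∃ g : K, x = MulAut.conj g) → Bad x) : Inv3 K := by
  intro x hx
  have hxx : x * x = 1 := by rw [← pow_two, ← hx, pow_orderOf_eq_one]
  by_cases hin : ∃ g : K, x = MulAut.conj g
  · obtain ⟨t, rfl⟩ := hin
    rw [orderOf_injective _ (conj_inj hc)] at hx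
    exact hi t (by rw [← pow_two, ← hx, pow_orderOf_eq_one]) (fun e => by rw [e, orderOf_one] at hx; omega)
  · exact ho x hx hxx hin

theorem Inv3.of_inner (hc : center K = ⊥) (hin : ∀ x : MulAut K, ∃ g : K, x = MulAut.conj g)
    (h : ∀ t : K, t * t = 1 → t ≠ 1 → Bad (MulAut.conj t)) : Inv3 K :=
  Inv3.of_cases hc h fun x _ _ hx => absurd (hin x) hx

/-- one class of involutions and `(s t)³ = 1` -/
theorem Inv3.of_oneClass (hc : center K = ⊥) (hin : ∀ x : MulAut K, ∃ g : K, x = MulAut.conj g)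
    (hcl : ∀ x y : K, orderOf x = 2 → orderOf y = 2 → IsConj x y) {s t : K} (hs : s * s = 1) (hs1 : s ≠ 1)
    (ht : t * t = 1) (h1 : (s * t) ^ 3 = 1) (h2 : s * t ≠ 1) : Inv3 K :=
  have : Fact (Nat.Prime 2) := ⟨Nat.prime_two⟩
  Inv3.of_inner hc hin fun r hr hr1 => (Bad.of_dihedral hs ht h1 h2).inner
    (hcl s r (orderOf_eq_prime (by rw [pow_two, hs]) hs1) (orderOf_eq_prime (by rw [pow_two, hr]) hr1))

theorem center_bot [Finite K] [IsSimpleGroup K] (h : ¬ (Nat.card K).Prime) : center K = ⊥ := by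
  rcases (inferInstance : (center K).Normal).eq_bot_or_eq_top with h1 | h1
  · exact h1
  · exfalso
    apply h
    let _ : CommGroup K := { mul_comm := fun a b => mem_center_iff.1 (h1 ▸ mem_top b : b ∈ center K) a }
    exact IsSimpleGroup.prime_card

end Gen

section Sect

variable {K : Type u} [Group K]

/-- **An automorphism with square one acts trivially on an invariant section with `Inv3`, or is bad.** -/
theorem eq_or_bad {x : MulAut K} (hxx : x * x = 1) {M : Subgroup K} (hx : ∀ m ∈ M, x m ∈ M) {L : Type v} [Group L]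
    (φ : M →* L) (hφ : Function.Surjective φ) (hker : ∀ m : M, φ m = 1 → φ ⟨x m, hx m m.2⟩ = 1) (hI : Inv3 L) :
    Bad x ∨ ∀ m : M, φ ⟨x m, hx m m.2⟩ = φ m := by
  have hxm : ∀ a : K, x (x a) = a := fun a => by
    have := congrArg (fun f : MulAut K => f a) hxx
    exact this
  -- the automorphism of `M`
  let θ : M →* M :=
    { toFun := fun m => ⟨x m, hx m m.2⟩
      map_one' := Subtype.ext (map_one x)
      map_mul' := fun a b => Subtype.ext (map_mul x _ _) }
  have hθθ : ∀ m : M, θ (θ m) = m := fun m => Subtype.ext (hxm m)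
  let ψ : L →* L := (QuotientGroup.lift φ.ker (φ.comp θ) (fun m hm => hker m hm)).comp
    (QuotientGroup.quotientKerEquivOfSurjective φ hφ).symm.toMonoidHom
  have hψ : ∀ m : M, ψ (φ m) = φ (θ m) := by
    intro m
    have h1 : (QuotientGroup.quotientKerEquivOfSurjective φ hφ).symm (φ m) = (m : M ⧸ φ.ker) := by
      rw [MulEquiv.symm_apply_eq]
      rfl
    show (QuotientGroup.lift φ.ker (φ.comp θ) (fun m hm => hker m hm))
      ((QuotientGroup.quotientKerEquivOfSurjective φ hφ).symm (φ m)) = _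
    rw [h1]
    rfl
  have hψψ : ∀ l : L, ψ (ψ l) = l := by
    intro l
    obtain ⟨m, rfl⟩ := hφ l
    rw [hψ, hψ, hθθ]
  let Ψ : MulAut L := { ψ with invFun := ψ, left_inv := hψψ, right_inv := hψψ }
  have hΨ : ∀ m : M, Ψ (φ m) = φ ⟨x m, hx m m.2⟩ := hψ
  by_cases h1 : Ψ = 1
  · right
    intro m
    rw [← hΨ, h1]
    rfl
  · left
    have h2 : orderOf Ψ = 2 := by
      have : Fact (Nat.Prime 2) := ⟨Nat.prime_two⟩
      refine orderOf_eq_prime ?_ h1
      rw [pow_two]
      exact MulEquiv.ext fun l => hψψ l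
    obtain ⟨a, ha⟩ := hI Ψ h2
    obtain ⟨m, rfl⟩ := hφ a
    rw [hΨ] at ha
    exact Bad.of_section hx φ m ha

/-- the kernel of a homomorphism with solvable kernel onto a simple nonsolvable group is invariant -/
theorem ker_inv {x : MulAut K} (hxx : x * x = 1) {M : Subgroup K} (hx : ∀ m ∈ M, x m ∈ M) {L : Type v} [Group L]
    [IsSimpleGroup L] (hL : ¬ Group.IsSolvable L) (φ : M →* L) (hφ : Function.Surjective φ)
    (hk : Group.IsSolvable ↥φ.ker) : ∀ m : M, φ m = 1 → φ ⟨x m, hx m m.2⟩ = 1 := by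
  have hxm : ∀ a : K, x (x a) = a := fun a => by
    have := congrArg (fun f : MulAut K => f a) hxx
    exact this
  let θ : M →* M :=
    { toFun := fun m => ⟨x m, hx m m.2⟩
      map_one' := Subtype.ext (map_one x)
      map_mul' := fun a b => Subtype.ext (map_mul x _ _) }
  have hθ : Function.Surjective θ := fun m => ⟨θ m, Subtype.ext (hxm m)⟩
  have hN : (φ.ker.map (φ.comp θ)).Normal := Subgroup.Normal.map inferInstance _ (hφ.comp hθ)
  have hs : Group.IsSolvable ↥(φ.ker.map (φ.comp θ)) :=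
    Group.isSolvable_of_surjective ((φ.comp θ).subgroupMap_surjective φ.ker)
  rcases hN.eq_bot_or_eq_top with h1 | h1
  · intro m hm
    have h2 : φ (θ m) ∈ φ.ker.map (φ.comp θ) := ⟨m, hm, rfl⟩
    rw [h1, mem_bot] at h2
    exact h2
  · exfalso
    apply hL
    rw [h1] at hs
    exact Group.isSolvable_of_surjective (f := (⊤ : Subgroup L).subtype) fun l => ⟨⟨l, mem_top l⟩, rfl⟩

/-- **An automorphism with square one acts trivially on a simple quotient with `Inv3` of an invariant subgroup, or is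
bad.** -/
theorem eq_or_bad_simple {x : MulAut K} (hxx : x * x = 1) {M : Subgroup K} (hx : ∀ m ∈ M, x m ∈ M) {L : Type v}
    [Group L] [IsSimpleGroup L] (hL : ¬ Group.IsSolvable L) (φ : M →* L) (hφ : Function.Surjective φ)
    (hk : Group.IsSolvable ↥φ.ker) (hI : Inv3 L) : Bad x ∨ ∀ m : M, φ ⟨x m, hx m m.2⟩ = φ m :=
  eq_or_bad hxx hx φ hφ (ker_inv hxx hx hL φ hφ hk) hI

end Sect

/-- **`Hyp π A x 2`, `3 ∉ π` and `Inv3 S` are contradictory.** -/
theorem Inv3.false {S : Type u} [Group S] [Finite S] {π : Set ℕ} {A : Subgroup (MulAut S)} {x : MulAut S}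
    (hI : Inv3 S) (hZ : center S = ⊥) (h : H469.PiBS.Hyp π A x 2) (h3 : 3 ∉ π) : False := by
  obtain ⟨a, ha⟩ := hI x h.ord
  exact h3 (h.pi_orderOf hZ a Nat.prime_three ha)

end Cfsg.Agent.H799.PiBS
end

-- part: H799/PiBS/Suz
section
set_option linter.all false
open scoped Cfsg.Agent.FastGrp

/-!
# `Inv3` for the sporadic Suzuki group (helper799, S3876; after H681.RadSuz)
-/

set_option autoImplicit false
set_option maxRecDepth 100000
set_option exponentiation.threshold 4000

namespace Cfsg.Agent.H799.PiBS.Suz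

open Subgroup Cfsg Cfsg.Spor
open Cfsg.Agent.Lib.PermNet Cfsg.Agent.Lib.PermNetOrbit Cfsg.Agent.SporadicRecognition.SuzPhi
  Cfsg.Agent.SporadicRecognition.SuzOrder Cfsg.Agent.SuzThree.Basic Cfsg.Agent.KFacts.SuzRho
  Cfsg.Agent.SuzThree.CentA
open Cfsg.Agent.KFacts.SuzLFour (e0)

/-- the second outer involution -/
local notation "σσ" => Cfsg.Agent.KFacts.SuzRho.sigma

theorem ne_one_of {w : List Suz.Gen} {p q : ℕ} (h : mv (wd w) p q = true) (hpq : p ≠ q) : el w ≠ 1 := by
  intro h1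
  have h2 := (Rep.el w).pt h
  rw [h1, map_one, Equiv.Perm.one_apply] at h2
  exact hpq h2

/-- the commutator words -/
theorem comm_conj (s w : List Suz.Gen) : MulAut.conj (el s) (el w) * (el w)⁻¹ =
    el (s ++ (w ++ (s.reverse ++ w.reverse))) := by
  rw [MulAut.conj_apply]
  simp only [el_append, el_reverse, mul_assoc]

theorem comm_rho (w : List Suz.Gen) : rho (el w) * (el w)⁻¹ = el (w.map sw ++ w.reverse) := by
  rw [rho_el, el_append, el_reverse]

theorem comm_sigma (w : List Suz.Gen) : σσ (el w) * (el w)⁻¹ = el (([.d] ++ (w.map sw ++ [.d])) ++ w.reverse) := by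
  rw [sigma_el, el_append _ w.reverse, el_reverse]

theorem bad_of_word {y : MulAut Suz} {w u : List Suz.Gen} (h : y (el w) * (el w)⁻¹ = el u) {p q : ℕ}
    (h1 : mv (wd u) p q = true) (hpq : p ≠ q) (h2 : checkEq 11 (wd (u ++ (u ++ u))) [] = true) : Bad y := by
  have : Fact (Nat.Prime 3) := ⟨Nat.prime_three⟩
  refine ⟨el w, ?_⟩
  rw [h, orderOf_eq_prime (p := 3) ?_ (ne_one_of h1 hpq)]
  rw [← el_eq_one h2]
  simp only [el_append, pow_succ, pow_zero, one_mul, mul_assoc]

theorem bad_a : Bad (MulAut.conj (el [.a])) :=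
  bad_of_word (w := [.b, .a, .c, .b]) (comm_conj _ _) (p := 1) (q := 11)
    (by decide +kernel) (by norm_num) (by decide +kernel)

theorem bad_e : Bad (MulAut.conj (el [.e])) :=
  bad_of_word (w := [.d]) (comm_conj _ _) (p := 4) (q := 8) (by decide +kernel) (by norm_num) (by decide +kernel)

theorem bad_rho : Bad rho :=
  bad_of_word (w := [.g, .f, .b, .d, .c, .a, .b, .a, .f, .c, .g]) (comm_rho _) (p := 0) (q := 54)
    (by decide +kernel) (by norm_num) (by decide +kernel)

theorem bad_sigma : Bad σσ :=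
  bad_of_word (w := [.e]) (comm_sigma _) (p := 4) (q := 14) (by decide +kernel) (by norm_num) (by decide +kernel)

theorem inv3_model : Inv3 Suz := by
  have hc := Cfsg.Agent.BpSpor.SuzThree.center_eq
  refine Inv3.of_cases hc (fun s hss hs1 => ?_) fun x hx hxx hi => ?_
  · rcases Cfsg.Agent.CTwoTab.Suz.classes hss hs1 with h | h
    · exact bad_a.inner h
    · exact bad_e.inner h
  · push Not at hi
    rcases Cfsg.Agent.KFacts.SuzInvol.outer hxx hi with ⟨g, h⟩ | ⟨g, h⟩
    · rw [h]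
      exact bad_rho.conj _
    · have h2 : x = MulAut.conj (g * (el [.e, .d])⁻¹) * σσ * (MulAut.conj (g * (el [.e, .d])⁻¹))⁻¹ := by
        rw [h, Cfsg.Agent.KFacts.SuzInvol.sigma_eq, map_mul, map_inv]
        group
      rw [h2]
      exact bad_sigma.conj _

/-- **The Suzuki sporadic group.** -/
theorem inv3_suz {K : Type*} [Group K] (h : Cfsg.Spor.IsoSuz K) : Inv3 K := by
  obtain ⟨e⟩ := h
  exact inv3_model.congr e

end Cfsg.Agent.H799.PiBS.Suz
end
end
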