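import Cfsg.Agent.H799.PiBS.Suz
import Cfsg.Agent.TypeM.FactsMcL
import Cfsg.Agent.TypeM.FactsAut
import Cfsg.Agent.UGT.End.McLOuter
import Cfsg.Agent.H291.RowsA
import Cfsg.Agent.H603.SporElim
import Cfsg.Agent.Prune
set_option linter.all false
prune_inst 0x7f00000000000000000000000000000000000000000000000000000000000000000000000000000000000000000000000000000000000000000000000000000000000000000000000000000000000000003fffffffffffffffffffffffffffbeffbdffffffff
open scoped Cfsg.Agent.FastGrp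

/-!
# `Inv3` for the McLaughlin group (helper799, S3876; after H817.RadMcL)
-/

set_option autoImplicit false

namespace Cfsg.Agent.H799.PiBS.McL

open Subgroup Equiv Cfsg
open Cfsg.Agent.UGT.End.McLOuter Cfsg.Agent.UGT.End.McLPerm
open Cfsg.Agent.TypeM Cfsg.Agent.TypeM.OuterMcL
open Cfsg.Agent.TypeM.Two (MT)

/-- an element of `A_8` -/
def al : Perm (Fin 8) := swap 5 6 * swap 6 7
/-- an element of `A_8` -/
def be : Perm (Fin 8) := swap 3 4 * swap 4 6

theorem al_sign : Perm.sign al = 1 := by decide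
theorem al_pow : (s0 * al * s0⁻¹ * al⁻¹) ^ 3 = 1 := by decide +kernel
theorem al_ne : s0 * al * s0⁻¹ * al⁻¹ ≠ 1 := by decide

theorem be_sign : Perm.sign be = 1 := by decide
theorem be_pow : (v0 * be * v0⁻¹ * be⁻¹) ^ 3 = 1 := by decide +kernel
theorem be_ne : v0 * be * v0⁻¹ * be⁻¹ ≠ 1 := by decide

theorem inv3_mcl {K : Type*} [Group K] [Finite K] [IsSimpleGroup K] (h : Cfsg.Spor.IsoMcL K) : Inv3 K := by
  obtain ⟨-, -, hcard, ⟨L⟩⟩ := TypeM.FactsMcL.facts h
  have : Fact (Nat.Prime 3) := ⟨Nat.prime_three⟩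
  have hc : center K = ⊥ := center_bot (by rw [hcard]; norm_num)
  refine Inv3.of_cases hc (fun g hgg hg1 => ?_) fun x hx hφ hin => ?_
  · obtain ⟨v, hv⟩ := L.K.exists_lift (σ := v0) (by rw [Perm.mem_alternatingGroup]; decide)
    obtain ⟨a, ha⟩ := L.K.exists_lift (σ := be) (Perm.mem_alternatingGroup.2 be_sign)
    have hv2 : v * v = 1 := L.K.sq_eq_one_iff.2 (by rw [hv]; decide)
    have hv1 : (v : K) ≠ 1 := by
      intro h1
      have h2 : v = 1 := Subtype.ext h1
      rw [h2, map_one] at hv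
      exact absurd hv (by decide)
    have hvv : (v : K) * v = 1 := congrArg Subtype.val hv2
    have hbad : Bad (MulAut.conj (v : K)) := by
      refine ⟨(a : K), ?_⟩
      have h3 : orderOf (v0 * be * v0⁻¹ * be⁻¹) = 3 := orderOf_eq_prime be_pow be_ne
      have h4 : L.K.π (v * a * v⁻¹ * a⁻¹) = v0 * be * v0⁻¹ * be⁻¹ := by
        rw [map_mul, map_mul, map_mul, map_inv, map_inv, hv, ha]
      have h5 : 3 ∣ orderOf (v * a * v⁻¹ * a⁻¹) := by
        rw [← h3, ← h4]
        exact orderOf_map_dvd L.K.π _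
      rw [← Subgroup.orderOf_coe] at h5
      exact h5
    obtain ⟨c, hc'⟩ := L.conj_of_involutions hvv hv1 hgg hg1
    exact hbad.inner (isConj_iff.2 ⟨c, hc'⟩)
  · have he : Even (Nat.card ↥(centralizer ({(1 : K)} : Set K))) := by
      have h1 : centralizer ({(1 : K)} : Set K) = ⊤ := by
        rw [eq_top_iff]
        intro a _
        rw [mem_centralizer_singleton_iff, mul_one, one_mul]
      rw [h1, card_top, hcard]
      decide
    obtain ⟨u, hu2, hxu, -⟩ := H291.Parity.exists_comm_invo x hφ (w := (1 : K)) (map_one x) he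
    have hI : ∀ L' : MT 8 K, EvenInner L' := fun L' =>
      Cfsg.Agent.TypeM.OuterInst.evenInner L' (Or.inl rfl) (Cfsg.Agent.TypeM.FactsAut.gen L' (Or.inl ⟨rfl, hcard⟩))
    have hout : x ∉ (MulAut.conj : K →* MulAut K).range := fun ⟨g, hg⟩ => hin ⟨g, hg.symm⟩
    have huu : u * u = 1 := by rw [← pow_two, ← hu2, pow_orderOf_eq_one]
    have hu1 : u ≠ 1 := by
      rintro rfl
      rw [orderOf_one] at hu2
      omega
    obtain ⟨L1, hL1⟩ := L.exists_rebase huu hu1
    obtain ⟨L2, hL2, hcp⟩ := exists_type L1 (fun L' _ => hI L') hφ hout (by rw [hL1]; exact hxu)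
    have hxt : x L2.t = L2.t := by rw [hL2, hL1]; exact hxu
    obtain ⟨a, ha⟩ := L2.K.exists_lift (σ := al) (Perm.mem_alternatingGroup.2 al_sign)
    have hxa : x (a : K) ∈ centralizer ({L2.t} : Set K) := by
      rw [mem_centralizer_singleton_iff]
      have h1 := congrArg x (mem_centralizer_singleton_iff.1 a.2)
      rw [map_mul, map_mul, hxt] at h1
      exact h1
    have h1 := hcp a ⟨x a, hxa⟩ rfl
    have h2 : L2.K.π (⟨x a, hxa⟩ * a⁻¹) = s0 * al * s0⁻¹ * al⁻¹ := by
      rw [map_mul, map_inv, h1, ha]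
    have h3 : orderOf (s0 * al * s0⁻¹ * al⁻¹) = 3 := orderOf_eq_prime al_pow al_ne
    have h4 : 3 ∣ orderOf ((⟨x a, hxa⟩ : ↥(centralizer ({L2.t} : Set K))) * a⁻¹) := by
      rw [← h3, ← h2]
      exact orderOf_map_dvd L2.K.π _
    refine ⟨(a : K), ?_⟩
    rw [← Subgroup.orderOf_coe] at h4
    exact h4

end Cfsg.Agent.H799.PiBS.McL
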